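import Cfsg.Agent.ZStar.Core
import Cfsg.Agent.BrauerSuzuki.Forms
import Cfsg.Agent.Small.DihedralConj

/-!
# Glauberman's Z*-theorem

`exists_oddNormal` : an isolated involution is central modulo a normal subgroup of odd order.
`exists_oddNormal_of_sylow` : the same for an involution without other conjugates in a Sylow
2-subgroup containing it. `mem_center_of_isolated` : the form for trivial odd core.
-/

set_option autoImplicit false

namespace CfsgLib.ZStar

open Cfsg

universe u

variable {G : Type u} [Group G] [Finite G] {u : G}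

/-- Glauberman's Z*-theorem. -/
theorem exists_oddNormal (hu : IsIsolatedInvolution u) :
    ∃ N : Subgroup G, N.Normal ∧ Odd (Nat.card N) ∧ ∀ g : G, u * g * u⁻¹ * g⁻¹ ∈ N :=
  exists_oddNormal_of_quaternion (fun _ _ _ S _ e hO =>
    BrauerSuzuki.card_center_eq_two S (Nat.le_self_pow (Nat.succ_ne_zero _) 2) e hO) G u hu

/-- Glauberman's Z*-theorem, Sylow form. -/
theorem exists_oddNormal_of_sylow (P : Sylow 2 G) (hu : orderOf u = 2) (huP : u ∈ P)
    (hiso : ∀ g : G, g * u * g⁻¹ ∈ P → g * u * g⁻¹ = u) :
    ∃ N : Subgroup G, N.Normal ∧ Odd (Nat.card N) ∧ ∀ g : G, u * g * u⁻¹ * g⁻¹ ∈ N :=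
  exists_oddNormal (isIsolatedInvolution_of_odd_commutator hu
    ((CfsgLib.Small.isolated_iff_odd_commutator P hu huP).1 hiso))

/-- An isolated involution is central when the odd core is trivial. -/
theorem mem_center_of_isolated (hu : IsIsolatedInvolution u)
    (hO : ∀ N : Subgroup G, N.Normal → Odd (Nat.card N) → N = ⊥) : u ∈ Subgroup.center G := by
  obtain ⟨N, hN, hodd, hc⟩ := exists_oddNormal hu
  rw [hO N hN hodd] at hc
  refine Subgroup.mem_center_iff.2 fun g => ?_
  have h := Subgroup.mem_bot.1 (hc g)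
  rw [mul_inv_eq_one, mul_inv_eq_iff_eq_mul] at h
  exact h.symm

end CfsgLib.ZStar
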