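import Cfsg.Agent.Blocks.Sections
import Cfsg.Agent.BlockPairs.PairBridge
import Cfsg.Agent.BlockPairs.Maximal
import Cfsg.Agent.BlockPairs.ResField
import Cfsg.Agent.PrincipalBlock.Basic
import Cfsg.Agent.S4646

/-!
# Brauer's third main theorem for centralizers of p-elements (principal block)

* `eq_principal_of_blockHas`: the only pair of the principal block at a p-subgroup `Q` is the
  principal block of `C(Q)`;
* `mem_principalBlock_of_overSet`: only the principal block of `C(x)` induces the principal block;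
* `apply_mul_eq_of_mem`: for `χ` in the principal block, a p-element `x` and `y` in a normal
  p'-subgroup of `C(x)`, `χ (x * y) = χ x`.
-/

set_option autoImplicit false
set_option linter.unusedSectionVars false
set_option linter.style.haveILetI false

namespace CfsgLib.ZStar

open Cfsg CfsgLib.Blocks CfsgLib.PrincipalBlock
open CfsgLib.BlockPairs (GA cj cent cent_top br IsFixed IsPair BlockHas Step Le IsMaxPair sblk gblk
  isBlock_sblk isBlock_gblk redC sblk_coeff)

universe u

variable {G : Type u} [Group G] [Finite G] {p : ℕ} [Fact p.Prime] {M : Ideal AlgInt} [M.IsPrime]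

/-- The principal block of `C(Q)` in the group algebra model. -/
noncomputable def pBlk (M : Ideal AlgInt) [M.IsPrime] (Q : Subgroup G) : GA (Res M) G :=
  sblk M (Subgroup.centralizer (Q : Set G))
    (Cfsg.principalBlock M (Subgroup.centralizer (Q : Set G)))

theorem isPBlock_principal (K : Subgroup G) : Cfsg.IsPBlock M (Cfsg.principalBlock M K) := by
  haveI := Fintype.ofFinite K
  exact isPBlock_principalBlock

theorem isPBlock_principal_top : Cfsg.IsPBlock M (Cfsg.principalBlock M G) := by
  haveI := Fintype.ofFinite G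
  exact isPBlock_principalBlock

theorem isPair_pBlk {Q : Subgroup G} (hQ : IsPGroup p Q) : IsPair p ⊤ Q (pBlk M Q) :=
  ⟨le_top, hQ, by rw [cent_top]; exact isBlock_sblk (isPBlock_principal _)⟩

theorem conj_notMem_centralizer {P : Subgroup G} {u y : G} (hu : u ∈ P)
    (hy : y ∉ Subgroup.centralizer (P : Set G)) :
    u * y * u⁻¹ ∉ Subgroup.centralizer (P : Set G) := by
  intro h
  have h1 := Subgroup.mem_centralizer_iff.1 h u hu
  have h2 : u * y * u⁻¹ = y := by
    calc u * y * u⁻¹ = u⁻¹ * (u * (u * y * u⁻¹)) := by group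
      _ = u⁻¹ * (u * y * u⁻¹ * u) := by rw [h1]
      _ = y := by group
  exact hy (h2 ▸ h)

variable (hM : Cfsg.IsPModular p M)
include hM

/-- Coefficients summing to one, constant on the orbits of `P`, give the principal block of
`C(P)`. -/
theorem br_mul_pBlk {P : Subgroup G} (hP : IsPGroup p P) (β : G → ℂ)
    (hloc : ∀ x, Cfsg.MemLocalRing M (β x))
    (hinv : ∀ c ∈ Subgroup.centralizer (P : Set G), ∀ x ∈ Subgroup.centralizer (P : Set G),
      β (c * x * c⁻¹) = β x)
    {b : GA (Res M) G} (hb : ∀ g, b.coeff g = redC M (β g)) (hfix : IsFixed P b)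
    (hbb : b * b = b) (hsum : ∑ᶠ g : G, β g = 1) :
    br P b * pBlk M P = pBlk M P := by
  classical
  haveI := charP_res hM
  haveI := BlockPairs.isAlgClosed_res hM
  haveI := Fintype.ofFinite G
  refine (BlockPairs.brauer_condition hP (isPBlock_principal _) β hloc hinv hb hfix hbb).1 ?_
  set C := Subgroup.centralizer (P : Set G) with hC
  haveI := Fintype.ofFinite C
  intro ξ hξ
  let z : Ctr (localRing M) C := ⟨ofFun fun x => ⟨β x, hloc _⟩, mem_ctr_iff.mpr fun x h =>
    Subtype.ext (by simpa using hinv h h.2 x x.2)⟩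
  have hz : brauerOmega P β (ξ : C → ℂ) = (omegaO M ξ z : ℂ) := by
    rw [coe_omegaO, omega_apply, brauerOmega, finsum_eq_sum_of_fintype, Finset.sum_div]
    exact Finset.sum_congr rfl fun x _ => by simp [z, toC]
  rw [hz]
  change MemLocalIdeal M ((omegaO M ξ z : ℂ) - ((1 : localRing M) : ℂ))
  rw [← red_eq_red_iff, ← omegaBar_redCtr, mem_principalBlock_iff.mp hξ, omegaBar_trivChar]
  set f : G → Res M := fun g => red M ⟨β g, hloc g⟩ with hf
  have hall : ∑ g : G, f g = red M 1 := by
    rw [hf, ← map_sum]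
    refine congrArg _ (Subtype.ext ?_)
    rw [AddSubmonoidClass.coe_finsetSum]
    rw [finsum_eq_sum_of_fintype] at hsum
    exact hsum
  rw [← hall]
  have hfu : ∀ q ∈ P, ∀ y : G, f (q * y * q⁻¹) = f y := fun q hq y => by
    have h1 := congrArg (fun a : GA (Res M) G => a.coeff (q * y * q⁻¹)) (hfix q hq)
    simp only [BlockPairs.conjA_coeff, hb] at h1
    rw [show q⁻¹ * (q * y * q⁻¹) * q = y by group, BlockPairs.redC_of_mem (hloc _),
      BlockPairs.redC_of_mem (hloc _)] at h1
    exact h1.symm
  have hout : ∑ g : G, (if g ∈ C then 0 else f g) = 0 := by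
    refine sum_eq_zero_of_no_fixed (p := p) (hP.map ConjAct.toConjAct.toMonoidHom) _ ?_ ?_
    · rintro ⟨_, q, hq, rfl⟩ y hne
      have hy : y ∉ C := fun h => hne (if_pos h)
      show (if q * y * q⁻¹ ∈ C then 0 else f (q * y * q⁻¹)) = _
      rw [if_neg (conj_notMem_centralizer hq hy), if_neg hy, hfu q hq y]
    · intro y hne
      have hy : y ∉ C := fun h => hne (if_pos h)
      rw [hC, Subgroup.mem_centralizer_iff] at hy
      push Not at hy
      obtain ⟨q, hq, hqy⟩ := hy
      refine ⟨⟨_, q, hq, rfl⟩, fun h => hqy ?_⟩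
      have h : q * y * q⁻¹ = y := h
      rwa [mul_inv_eq_iff_eq_mul] at h
  rw [← sub_zero (∑ g : G, f g), ← hout, ← Finset.sum_sub_distrib]
  have h2 : ∀ g : G, f g - (if g ∈ C then 0 else f g) = if g ∈ C then f g else 0 := by
    intro g; split_ifs <;> simp
  rw [Finset.sum_congr rfl fun g _ => h2 g, ← Finset.sum_filter]
  refine Eq.trans ?_ (Finset.sum_subtype (F := inferInstance) _ (p := fun x => x ∈ C)
    (fun x => by simp) f).symm
  exact Finset.sum_congr rfl fun x _ => by simp [z, hf, redCtr]

theorem step_pBlk {Q P : Subgroup G} (hP : IsPGroup p P) (hQP : Q ≤ P)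
    (hN : P ≤ Subgroup.normalizer (Q : Set G)) :
    Step p ⊤ (Q, pBlk M Q) (P, pBlk M P) := by
  classical
  haveI := charP_res hM
  haveI := BlockPairs.isAlgClosed_res hM
  haveI := Fintype.ofFinite G
  set K := Subgroup.centralizer (Q : Set G) with hK
  haveI := Fintype.ofFinite K
  have hblk : Cfsg.IsPBlock M (Cfsg.principalBlock M K) := isPBlock_principal K
  have hfix : IsFixed P (pBlk M Q) := fun x hx =>
    ((BlockPairs.stabilizesBlock_iff hblk).1 (Cfsg.Agent.S4646.stabilizesBlock_principal K
      (BlockPairs.normalizer_le_normalizer_centralizer Q (hN hx)))).2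
  refine ⟨isPair_pBlk (hP.to_le hQP), isPair_pBlk hP, hQP, hN, hfix, ?_⟩
  have hle : Subgroup.centralizer (P : Set G) ≤ K :=
    Subgroup.centralizer_le (SetLike.coe_subset_coe.2 hQP)
  refine br_mul_pBlk hM hP (Cfsg.subgroupBlockCoeff K (Cfsg.principalBlock M K)) (fun x => ?_)
    (fun c hc x hx => ?_) (sblk_coeff _ _) hfix (isBlock_sblk hblk).idem ?_
  · rw [Cfsg.subgroupBlockCoeff]
    split_ifs with h
    · exact memLocalRing_blockCoeff (isBlockUnion_of_isPBlock hblk) _
    · exact memLocalRing_of_memLocalIdeal memLocalIdeal_zero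
  · rw [Cfsg.subgroupBlockCoeff, Cfsg.subgroupBlockCoeff, dif_pos (hle hx),
      dif_pos (mul_mem (mul_mem (hle hc) (hle hx)) (inv_mem (hle hc)))]
    exact blockCoeff_conj _ (⟨x, hle hx⟩ : K) ⟨c, hle hc⟩
  · rw [finsum_eq_sum_of_fintype, ← Finset.sum_subset (Finset.subset_univ
      (Finset.univ.map ⟨((↑) : K → G), Subtype.val_injective⟩)) ?_, Finset.sum_map]
    · refine Eq.trans (Finset.sum_congr rfl fun k _ => ?_) (sum_blockCoeff (M := M) (G := K))
      rw [Cfsg.subgroupBlockCoeff, Function.Embedding.coeFn_mk, dif_pos k.2]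
    · intro g _ hg
      rw [Cfsg.subgroupBlockCoeff, dif_neg]
      exact fun h => hg (Finset.mem_map.2 ⟨⟨g, h⟩, Finset.mem_univ _, rfl⟩)

theorem le_pBlk : ∀ {Q P : Subgroup G}, IsPGroup p P → Q ≤ P →
    Le p ⊤ Q (pBlk M Q) P (pBlk M P) := by
  intro Q P hP hQP
  induction Q using WellFoundedGT.induction with
  | ind Q ih =>
    rcases eq_or_lt_of_le hQP with rfl | hlt
    · exact Le.refl'
    · have hR := BlockPairs.lt_normalizer_inf hP hlt
      exact (Le.of_step (step_pBlk hM (hP.to_le inf_le_right) hR.le inf_le_left)).trans'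
        (ih _ hR inf_le_right)

theorem conjA_pBlk (x : G) (Q : Subgroup G) :
    BlockPairs.conjA (Res M) x (pBlk M Q) = pBlk M (cj x Q) := by
  haveI := charP_res hM
  haveI := BlockPairs.isAlgClosed_res hM
  rw [pBlk, ← BlockPairs.sblk_imageSet (BlockPairs.cj_centralizer x Q)]
  refine congrArg (sblk M _) ?_
  set e := BlockPairs.conjIso _ _ x (BlockPairs.cj_centralizer x Q)
  haveI := Fintype.ofFinite (Subgroup.centralizer (Q : Set G))
  haveI := Fintype.ofFinite (Subgroup.centralizer ((cj x Q : Subgroup G) : Set G))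
  refine isPBlock_eq_of_mem (BlockPairs.isPBlock_imageSet e (isPBlock_principal _))
    (isPBlock_principal _) (χ := trivChar (Subgroup.centralizer ((cj x Q : Subgroup G) : Set G)))
    ?_ trivChar_mem
  show BlockPairs.irrComp e (trivChar _) ∈ Cfsg.principalBlock M _
  have : BlockPairs.irrComp e (trivChar _) = trivChar (Subgroup.centralizer (Q : Set G)) :=
    Subtype.ext (funext fun k => by rw [BlockPairs.irrComp_apply]; rfl)
  rw [this]
  exact trivChar_mem

theorem blockHas_pBlk {Q : Subgroup G} (hQ : IsPGroup p Q) :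
    BlockHas p ⊤ (gblk M (Cfsg.principalBlock M G)) Q (pBlk M Q) := by
  haveI := charP_res hM
  haveI := BlockPairs.isAlgClosed_res hM
  haveI := Fintype.ofFinite G
  exact (BlockPairs.isBrauerPairOf_iff isPBlock_principalBlock (isPBlock_principal _)).1
    (Cfsg.Agent.S4646.isBrauerPairOf_principal hM Q hQ)

theorem isMaxPair_pBlk (S : Sylow p G) :
    IsMaxPair p ⊤ (gblk M (Cfsg.principalBlock M G)) (S : Subgroup G) (pBlk M (S : Subgroup G)) :=
  ⟨blockHas_pBlk hM S.isPGroup', fun _ _ hR hle => S.is_maximal' hR.1.2.1 hle.subgroup_le⟩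

/-- The only pair of the principal block at `Q` is the principal block of `C(Q)`. -/
theorem eq_principal_of_blockHas {Q : Subgroup G} {f : GA (Res M) G}
    (h : BlockHas p ⊤ (gblk M (Cfsg.principalBlock M G)) Q f) : f = pBlk M Q := by
  haveI := charP_res hM
  haveI := BlockPairs.isAlgClosed_res hM
  have hB := isBlock_gblk (M := M) (isPBlock_principal_top (G := G))
  obtain ⟨S⟩ : Nonempty (Sylow p G) := inferInstance
  obtain ⟨x, -, hle⟩ := BlockPairs.exists_conj_le hB (isMaxPair_pBlk hM S) h
  have h2 := BlockPairs.le_unique hle (le_pBlk hM S.isPGroup' hle.subgroup_le)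
  rw [← conjA_pBlk hM] at h2
  exact BlockPairs.conjA_injective x h2

theorem mem_principal_of_omegaBar {Q K : Subgroup G} (hQ : IsPGroup p Q)
    (hK : K = Subgroup.centralizer (Q : Set G)) [Fintype G] [Fintype K] (ξ : IrrCharacter K)
    (h : omegaBar M ξ (resCtr K (idemBar M (Cfsg.principalBlock M G)
      (isBlockUnion_of_isPBlock isPBlock_principalBlock))) = 1) :
    ξ ∈ Cfsg.principalBlock M K := by
  classical
  haveI := charP_res hM
  haveI := BlockPairs.isAlgClosed_res hM
  subst hK
  set B := Cfsg.principalBlock M G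
  have hB : Cfsg.IsPBlock M B := isPBlock_principalBlock
  have hb := isPBlock_blockOf (M := M) ξ
  have hpair : Cfsg.IsBrauerPairOf p M B Q (Cfsg.blockOf M (ξ : Subgroup.centralizer (Q : Set G) → ℂ)) := by
    refine ⟨⟨hQ, hb⟩, hB, fun η hη => ?_⟩
    set z := resCtr (Subgroup.centralizer (Q : Set G)) (setIdemO M B (memLocalRing_blockCoeff (isBlockUnion_of_isPBlock hB)))
    have hz : brauerOmega Q (blockCoeff B) (η : Subgroup.centralizer (Q : Set G) → ℂ) = (omegaO M η z : ℂ) := by
      rw [coe_omegaO, omega_apply, brauerOmega, finsum_eq_sum_of_fintype, Finset.sum_div]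
      exact Finset.sum_congr rfl fun x _ => by simp [z, toC, setIdemO]
    rw [hz]
    change MemLocalIdeal M ((omegaO M η z : ℂ) - ((1 : localRing M) : ℂ))
    rw [← red_eq_red_iff, map_one, ← omegaBar_redCtr,
      ← (sameBlock_iff ξ η).1 (mem_blockOf.1 hη)]
    refine Eq.trans ?_ h
    rw [idemBar]
    exact congrArg _ (mapCtr_resCtr (red M) _ _)
  have h1 := eq_principal_of_blockHas hM ((BlockPairs.isBrauerPairOf_iff hB hb).1 hpair)
  exact BlockPairs.sblk_inj hb (isPBlock_principal _) h1 ▸ mem_blockOf_self ξ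

/-- Only the principal block of `C(x)` induces the principal block. -/
theorem mem_principalBlock_of_overSet [Fintype G] {x : G} (hx : ∃ k, orderOf x = p ^ k)
    [Fintype (Subgroup.centralizer ({x} : Set G))]
    {ξ : IrrCharacter (Subgroup.centralizer ({x} : Set G))}
    (hξ : ξ ∈ overSet M (Subgroup.centralizer ({x} : Set G)) (Cfsg.principalBlock M G)
      (isBlockUnion_of_isPBlock isPBlock_principalBlock)) :
    ξ ∈ Cfsg.principalBlock M (Subgroup.centralizer ({x} : Set G)) := by
  have hx' := hx
  obtain ⟨k, hk⟩ := hx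
  have hQ : IsPGroup p (Subgroup.zpowers x) :=
    IsPGroup.of_card (n := k) (by rw [Nat.card_zpowers, hk])
  refine mem_principal_of_omegaBar hM hQ ?_ ξ ?_
  · ext g
    constructor
    · intro hg
      rw [Subgroup.mem_centralizer_iff]
      intro v hv
      obtain ⟨i, rfl⟩ := Subgroup.mem_zpowers_iff.1 hv
      exact ((show Commute x g from (Subgroup.mem_centralizer_singleton_iff.1 hg).symm).zpow_left i).eq
    · exact fun hg => Subgroup.mem_centralizer_singleton_iff.2
        (Subgroup.mem_centralizer_iff.1 hg x (Subgroup.mem_zpowers x)).symm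
  · rw [(isInducedBlock_iff _ (isPBlock_blockOf ξ) isPBlock_principalBlock (mem_blockOf_self ξ)
      trivChar_mem).1 (isInducedBlock_of_mem_overSet hM hx' isPBlock_principalBlock hξ),
      omegaBar_idemBar, if_pos trivChar_mem]

/-- Values of principal block characters on the p-section of `x`: normal p'-subgroups of `C(x)`
are invisible. -/
theorem apply_mul_eq_of_mem [Fintype G] {x : G} (hx : ∃ k, orderOf x = p ^ k)
    {χ : IrrCharacter G} (hχ : χ ∈ Cfsg.principalBlock M G)
    (N : Subgroup (Subgroup.centralizer ({x} : Set G))) [N.Normal] (hN : ¬ p ∣ Nat.card N)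
    {y : Subgroup.centralizer ({x} : Set G)} (hy : y ∈ N) :
    (χ : G → ℂ) (x * (y : G)) = (χ : G → ℂ) x := by
  classical
  haveI := Fintype.ofFinite (Subgroup.centralizer ({x} : Set G))
  have key : ∀ z ∈ N, (χ : G → ℂ) (x * (z : G)) =
      Cfsg.blockPart (overSet M _ (Cfsg.principalBlock M G)
        (isBlockUnion_of_isPBlock isPBlock_principalBlock))
        (fun c : Subgroup.centralizer ({x} : Set G) => (χ : G → ℂ) (x * (c : G))) 1 := by
    intro z hz
    have hz' : ¬ p ∣ orderOf z := fun h => hN (h.trans (by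
      simpa using (orderOf_dvd_natCard (⟨z, hz⟩ : N))))
    have h1 := blockPart_overSet hM hx isPBlock_principalBlock χ hz'
    rw [if_pos hχ] at h1
    rw [← h1, Cfsg.blockPart, Cfsg.blockPart]
    refine finsum_mem_congr rfl fun ξ hξ => ?_
    have := mem_charKer.1 (le_charKer_of_mem hM N hN (mem_principalBlock_of_overSet hM hx hξ) hz)
    rw [this]
  rw [key y hy, ← key 1 N.one_mem]
  simp

end CfsgLib.ZStar
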