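import Cfsg.Agent.ZStar.ThirdMain
import Cfsg.Agent.Blocks.Height
import Cfsg.Agent.Isolated.Basic
import Cfsg.Agent.BlocksCharsC.RegularSupport
import Cfsg.Agent.BlocksLocal.NormalAverage
import Cfsg.Agent.TwoGroupsQ.UniqueInvolution
import Cfsg.Agent.Inv54.Core
import Cfsg.Agent.LocalEven50.Basic
import Cfsg.Agent.PLocal.PSolvable
import Mathlib.GroupTheory.SchurZassenhaus
import Mathlib.GroupTheory.Transfer

/-!
# Glauberman's Z*-theorem: the character-theoretic step and the induction

`exists_oddNormal_of_quaternion` proves the Z*-theorem for an isolated involution, given the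
statement for groups with generalised quaternion Sylow 2-subgroups (Brauer-Suzuki).
-/

set_option autoImplicit false
set_option linter.unusedSectionVars false
set_option linter.style.haveILetI false

namespace CfsgLib.ZStar

open Cfsg CfsgLib.Blocks CfsgLib.PrincipalBlock
open CfsgLib.Small (mul_self_of_orderOf_two inv_eq_self_of_orderOf_two)

universe u

variable {G : Type u} [Group G]

section Basic

variable [Finite G] {u : G}

theorem isIsolatedInvolution_mk (hu : IsIsolatedInvolution u) (N : Subgroup G) [N.Normal]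
    (huN : u ∉ N) : IsIsolatedInvolution (QuotientGroup.mk' N u) := by
  have hsq : QuotientGroup.mk' N u * QuotientGroup.mk' N u = 1 := by
    rw [← map_mul, mul_self_of_orderOf_two hu.1, map_one]
  have hne : QuotientGroup.mk' N u ≠ 1 := fun h => huN ((QuotientGroup.eq_one_iff u).1 h)
  have hu2 : orderOf (QuotientGroup.mk' N u) = 2 :=
    Small.orderOf_eq_two_iff_sq.2 ⟨hne, hsq⟩
  refine ⟨hu2, fun g hc => ?_⟩
  obtain ⟨g, rfl⟩ := QuotientGroup.mk'_surjective N g
  rw [← map_inv, ← map_mul, ← map_mul] at hc ⊢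
  set a := g * u * g⁻¹ with ha
  have ha2 : QuotientGroup.mk' N a * QuotientGroup.mk' N a = 1 := by
    rw [← map_mul, mul_self_of_orderOf_two (by rw [ha, Small.orderOf_conj_eq, hu.1]), map_one]
  set w := QuotientGroup.mk' N u * QuotientGroup.mk' N a with hw
  have hw2 : w ^ 2 = 1 := by
    rw [hw, hc.mul_pow, sq, sq, hsq, ha2, one_mul]
  have hodd : Odd (orderOf w) := by
    refine (Isolated.odd_mul hu (IsConj.refl u) (isConj_iff.2 ⟨g, rfl⟩)).of_dvd_nat ?_
    rw [hw, ← map_mul]
    exact orderOf_map_dvd _ _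
  have h1 : w = 1 := by
    have := orderOf_dvd_of_pow_eq_one hw2
    rw [← orderOf_eq_one_iff]
    exact Nat.eq_one_of_dvd_coprimes (Nat.coprime_two_left.2 hodd) this dvd_rfl
  rw [hw, mul_eq_one_iff_eq_inv'] at h1
  rw [h1, inv_eq_self_of_orderOf_two hu2]

theorem isIsolatedInvolution_subgroup (hu : IsIsolatedInvolution u) {H : Subgroup G} (h : u ∈ H) :
    IsIsolatedInvolution (⟨u, h⟩ : H) := by
  refine ⟨by rw [Subgroup.orderOf_mk, hu.1], fun g hc => Subtype.ext ?_⟩
  exact hu.2 (g : G) (congrArg Subtype.val hc.eq)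

omit [Finite G] in
theorem isIsolatedInvolution_of_odd_commutator {u : G} (hu : orderOf u = 2)
    (h : ∀ g : G, Odd (orderOf (u * g * u⁻¹ * g⁻¹))) : IsIsolatedInvolution u := by
  refine ⟨hu, fun g hc => ?_⟩
  set a := g * u * g⁻¹ with ha
  have hao : orderOf a = 2 := by rw [ha, Small.orderOf_conj_eq, hu]
  have he : u * g * u⁻¹ * g⁻¹ = u * a := by
    rw [ha, inv_eq_self_of_orderOf_two hu]; group
  have hodd : Odd (orderOf (u * a)) := he ▸ h g
  have h2 : (u * a) ^ 2 = 1 := by
    rw [hc.mul_pow, sq, sq, mul_self_of_orderOf_two hu, mul_self_of_orderOf_two hao, one_mul]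
  have h1 : u * a = 1 := by
    rw [← orderOf_eq_one_iff]
    exact Nat.eq_one_of_dvd_coprimes (Nat.coprime_two_left.2 hodd)
      (orderOf_dvd_of_pow_eq_one h2) dvd_rfl
  rw [mul_eq_one_iff_eq_inv'] at h1
  rw [h1, inv_eq_self_of_orderOf_two hu]

end Basic

section Chars

variable [Fintype G] {M : Ideal AlgInt} [M.IsPrime] {u : G}

/-- Averaging over a class: `∑ χ (s * w) = |K| χ t χ w / χ 1`. -/
theorem sum_class_mul (χ : IrrCharacter G) (t w : G) [DecidablePred fun s : G => IsConj t s] :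
    ∑ s : G, (if IsConj t s then (χ : G → ℂ) (s * w) else 0) =
      Cfsg.centralChar (χ : G → ℂ) t * (χ : G → ℂ) w := by
  classical
  have h := evalFun_central_mul χ (classSum ℂ (ConjClasses.mk t)) (MonoidAlgebra.single w 1)
  rw [omega_classSum] at h
  have h1 : evalFun (χ : G → ℂ) (MonoidAlgebra.single w 1) = (χ : G → ℂ) w := by
    rw [evalFun, Finset.sum_eq_single w (fun b _ hb => by simp [hb.symm]) (by simp)]
    simp
  rw [h1] at h
  refine Eq.trans ?_ h
  rw [evalFun]
  refine Fintype.sum_equiv (Equiv.mulRight w) _ _ fun s => ?_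
  simp only [Equiv.coe_mulRight, MonoidAlgebra.coeff_mul_single_apply, mul_inv_cancel_right,
    mul_one, coeff_classSum, ConjClasses.mk_eq_mk_iff_isConj]
  by_cases hs : IsConj t s
  · rw [if_pos hs, if_pos hs.symm, one_mul]
  · rw [if_neg hs, if_neg fun h => hs h.symm, zero_mul]

variable (hM : Cfsg.IsPModular 2 M)
include hM

/-- The values `χ (u s)` for a conjugate `s` of the involution `t ≠ u` in `C(u)` agree. -/
theorem apply_mul_conj_eq (hu : IsIsolatedInvolution u)
    (hloc : ∀ z : G, orderOf z = 2 → ∀ hzu : u ∈ Subgroup.centralizer ({z} : Set G),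
      ∃ N : Subgroup (Subgroup.centralizer ({z} : Set G)), N.Normal ∧ Odd (Nat.card N) ∧
        ∀ h : Subgroup.centralizer ({z} : Set G),
          (⟨u, hzu⟩ : Subgroup.centralizer ({z} : Set G)) * h * ⟨u, hzu⟩⁻¹ * h⁻¹ ∈ N)
    {t : G} (ht : orderOf t = 2) (htu : Commute t u) (hne : t ≠ u)
    {χ : IrrCharacter G} (hχ : χ ∈ Cfsg.principalBlock M G) {s : G} (hs : IsConj t s) :
    (χ : G → ℂ) (u * s) = (χ : G → ℂ) (u * t) := by
  haveI : Fact (Nat.Prime 2) := ⟨Nat.prime_two⟩
  have hso : orderOf s = 2 := by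
    obtain ⟨g, rfl⟩ := isConj_iff.1 hs; rw [Small.orderOf_conj_eq, ht]
  have heven : Even (orderOf (u * s)) := by
    by_contra h
    obtain ⟨k, hk⟩ := Small.conj_pow_eq_of_odd hu.1 hso (Nat.not_even_iff_odd.1 h)
    exact hne (Isolated.eq_of_commute_of_isConj hu (IsConj.refl u)
      ((isConj_iff.2 ⟨_, hk⟩).trans hs.symm) htu.symm)
  obtain ⟨hz, hzu, hzs⟩ := Small.half_pow_spec hu.1 hso heven
  set w := u * s with hw
  set m := orderOf w / 2 with hm
  set z := w ^ m with hzdef
  set C := Subgroup.centralizer ({z} : Set G) with hC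
  have huC : u ∈ C := Subgroup.mem_centralizer_singleton_iff.2 hzu.symm.eq
  have hsC : s ∈ C := Subgroup.mem_centralizer_singleton_iff.2 hzs.symm.eq
  obtain ⟨N, hN, hNodd, hcomm⟩ := hloc z hz huC
  haveI := hN
  let w' : C := ⟨u, huC⟩ * ⟨s, hsC⟩
  have hw2 : w' ^ 2 ∈ N := by
    have h1 := hcomm ⟨s, hsC⟩
    have e1 : (⟨u, huC⟩ : C)⁻¹ = ⟨u, huC⟩ := Subtype.ext (inv_eq_self_of_orderOf_two hu.1)
    have e2 : (⟨s, hsC⟩ : C)⁻¹ = ⟨s, hsC⟩ := Subtype.ext (inv_eq_self_of_orderOf_two hso)
    rw [e1, e2, mul_assoc ((⟨u, huC⟩ : C) * _)] at h1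
    rwa [sq]
  obtain ⟨r, hr⟩ := heven
  have hmr : m = r := by omega
  have hmodd : Odd m := by
    have h1 : orderOf (w' ^ 2) ∣ Nat.card N := by
      simpa using orderOf_dvd_natCard (⟨w' ^ 2, hw2⟩ : N)
    have hwo : orderOf w' = orderOf w := (Subgroup.orderOf_coe w').symm
    rw [orderOf_pow' w' two_ne_zero, hwo, hr, ← two_mul, Nat.gcd_mul_right_left,
      Nat.mul_div_cancel_left _ two_pos] at h1
    rw [hmr]
    exact hNodd.of_dvd_nat h1
  obtain ⟨i, hi⟩ := hmodd
  have hy : (w' ^ 2) ^ (i + 1) ∈ N := pow_mem hw2 _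
  have hwy : w = z * (((w' ^ 2) ^ (i + 1) : C) : G) := by
    push_cast
    show w = w ^ m * ((u * s) ^ 2) ^ (i + 1)
    rw [← hw, ← pow_mul, ← pow_add, show m + 2 * (i + 1) = orderOf w + 1 by omega, pow_succ,
      pow_orderOf_eq_one, one_mul]
  have hval : (χ : G → ℂ) w = (χ : G → ℂ) z := by
    rw [hwy]
    exact apply_mul_eq_of_mem hM ⟨1, by rw [hz, pow_one]⟩ hχ N hNodd.not_two_dvd_nat hy
  -- `u z` is a conjugate of `t` commuting with `u`
  have hconj : IsConj t (u * z) := by
    rcases Isolated.mul_pow_isConj hu.1 hso m with ⟨he, -⟩ | ⟨-, h⟩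
    · obtain ⟨j, hj⟩ := he; omega
    · exact hs.trans h
  have huz : Commute (u * z) u := (Commute.refl u).mul_left hzu
  obtain ⟨g, hg⟩ := isConj_iff.1 hconj
  obtain ⟨c, -, hcu, hc⟩ := Isolated.exists_conj_centralizer hu (H := ⊤)
    (Subgroup.le_normalizer (Subgroup.mem_top u))
    htu huz (Subgroup.mem_top g) hg
  have hzeq : z = c * (u * t) * c⁻¹ := by
    calc z = u * (u * z) := by rw [← mul_assoc, mul_self_of_orderOf_two hu.1, one_mul]
      _ = (c * u * c⁻¹) * (c * t * c⁻¹) := by rw [hc, hcu.eq, mul_inv_cancel_right]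
      _ = c * (u * t) * c⁻¹ := by group
  rw [hval, hzeq, Characters.isClassFunction_of_isIrr χ.2]

theorem mul_apply_eq (hu : IsIsolatedInvolution u)
    (hloc : ∀ z : G, orderOf z = 2 → ∀ hzu : u ∈ Subgroup.centralizer ({z} : Set G),
      ∃ N : Subgroup (Subgroup.centralizer ({z} : Set G)), N.Normal ∧ Odd (Nat.card N) ∧
        ∀ h : Subgroup.centralizer ({z} : Set G),
          (⟨u, hzu⟩ : Subgroup.centralizer ({z} : Set G)) * h * ⟨u, hzu⟩⁻¹ * h⁻¹ ∈ N)
    {t : G} (ht : orderOf t = 2) (htu : Commute t u) (hne : t ≠ u)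
    {χ : IrrCharacter G} (hχ : χ ∈ Cfsg.principalBlock M G) :
    (χ : G → ℂ) 1 * (χ : G → ℂ) (u * t) = (χ : G → ℂ) u * (χ : G → ℂ) t := by
  classical
  have hcl := Characters.isClassFunction_of_isIrr χ.2
  have h := sum_class_mul χ t u
  have hrw : ∀ s : G, (if IsConj t s then (χ : G → ℂ) (s * u) else 0) =
      if IsConj t s then (χ : G → ℂ) (u * t) else 0 := fun s => by
    split_ifs with hs
    · rw [Characters.classFunction_mul_comm hcl, apply_mul_conj_eq hM hu hloc ht htu hne hχ hs]
    · rfl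
  have hcard : (Finset.univ.filter fun s : G => IsConj t s).card =
      (Subgroup.centralizer ({t} : Set G)).index := by
    rw [← natCard_class, Nat.card_eq_fintype_card, Fintype.card_subtype]
    refine congrArg Finset.card (Finset.filter_congr fun s _ => ?_)
    rw [ConjClasses.mk_eq_mk_iff_isConj, isConj_comm]
  rw [Finset.sum_congr rfl fun s _ => hrw s, ← Finset.sum_filter, Finset.sum_const, hcard,
    nsmul_eq_mul, Cfsg.centralChar] at h
  have hi : ((Subgroup.centralizer ({t} : Set G)).index : ℂ) ≠ 0 :=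
    Nat.cast_ne_zero.2 Subgroup.index_ne_zero_of_finite
  have h1 : (χ : G → ℂ) 1 ≠ 0 := Characters.irr_one_ne_zero χ.2
  field_simp at h
  linear_combination h

/-- A character of the principal block not vanishing at such a `t` has the products `u u^g`
in its kernel. -/
theorem mul_conj_mem_charKer (hu : IsIsolatedInvolution u)
    (hloc : ∀ z : G, orderOf z = 2 → ∀ hzu : u ∈ Subgroup.centralizer ({z} : Set G),
      ∃ N : Subgroup (Subgroup.centralizer ({z} : Set G)), N.Normal ∧ Odd (Nat.card N) ∧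
        ∀ h : Subgroup.centralizer ({z} : Set G),
          (⟨u, hzu⟩ : Subgroup.centralizer ({z} : Set G)) * h * ⟨u, hzu⟩⁻¹ * h⁻¹ ∈ N)
    {t : G} (ht : orderOf t = 2) (htu : Commute t u) (hne : t ≠ u)
    {χ : IrrCharacter G} (hχ : χ ∈ Cfsg.principalBlock M G) (hχt : (χ : G → ℂ) t ≠ 0)
    {a : G} (ha : IsConj u a) : u * a ∈ charKer χ := by
  classical
  have hu2 := mul_self_of_orderOf_two hu.1
  have hut2 : orderOf (u * t) = 2 := by
    refine Small.orderOf_eq_two_iff_sq.2 ⟨fun h => hne ?_, ?_⟩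
    · rw [mul_eq_one_iff_eq_inv'] at h; rw [h, inv_eq_self_of_orderOf_two hu.1]
    · calc u * t * (u * t) = u * (t * u) * t := by group
        _ = (u * u) * (t * t) := by rw [htu.eq]; group
        _ = 1 := by rw [hu2, mul_self_of_orderOf_two ht, one_mul]
  have hne2 : u * t ≠ u := fun h => by
    have : t = 1 := mul_eq_left.1 h
    rw [this, orderOf_one] at ht; omega
  have e1 := mul_apply_eq hM hu hloc ht htu hne hχ
  have e2 := mul_apply_eq hM hu hloc hut2 ((Commute.refl u).mul_left htu) hne2 hχ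
  rw [← mul_assoc, hu2, one_mul] at e2
  have h1 : (χ : G → ℂ) 1 ≠ 0 := Characters.irr_one_ne_zero χ.2
  have hsq : (χ : G → ℂ) u * (χ : G → ℂ) u = (χ : G → ℂ) 1 * (χ : G → ℂ) 1 := by
    refine mul_right_cancel₀ hχt ?_
    linear_combination (-((χ : G → ℂ) u)) * e1 - (χ : G → ℂ) 1 * e2
  have hcl := Characters.isClassFunction_of_isIrr χ.2
  have h := sum_class_mul χ u u
  have hrw : ∀ s : G, (if IsConj u s then (χ : G → ℂ) (s * u) else 0) =
      if IsConj u s then (χ : G → ℂ) (u * s) else 0 := fun s => by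
    split_ifs
    · exact Characters.classFunction_mul_comm hcl _ _
    · rfl
  have hcard : (Finset.univ.filter fun s : G => IsConj u s).card =
      (Subgroup.centralizer ({u} : Set G)).index := by
    rw [← natCard_class, Nat.card_eq_fintype_card, Fintype.card_subtype]
    refine congrArg Finset.card (Finset.filter_congr fun s _ => ?_)
    rw [ConjClasses.mk_eq_mk_iff_isConj, isConj_comm]
  have hsum : ∑ s ∈ Finset.univ.filter (fun s : G => IsConj u s), (χ : G → ℂ) (u * s) =
      ((Finset.univ.filter fun s : G => IsConj u s).card : ℂ) * (χ : G → ℂ) 1 := by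
    rw [Finset.sum_filter, ← Finset.sum_congr rfl fun s _ => hrw s, h, hcard, Cfsg.centralChar]
    field_simp
    linear_combination ((Subgroup.centralizer ({u} : Set G)).index : ℂ) * hsq
  have hzero : ∑ s ∈ Finset.univ.filter (fun s : G => IsConj u s),
      (((χ : G → ℂ) 1).re - ((χ : G → ℂ) (u * s)).re) = 0 := by
    have h3 := congrArg Complex.re hsum
    rw [Complex.re_sum, Complex.mul_re, Complex.natCast_re, Complex.natCast_im, zero_mul,
      sub_zero] at h3
    rw [Finset.sum_sub_distrib, h3, Finset.sum_const, nsmul_eq_mul, sub_self]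
  have h4 := (Finset.sum_eq_zero_iff_of_nonneg fun s _ =>
    sub_nonneg.2 (BlocksLocal.char_re_le χ (u * s)).1).1 hzero a (Finset.mem_filter.2 ⟨Finset.mem_univ a, ha⟩)
  exact mem_charKer.2 ((BlocksLocal.char_re_le χ (u * a)).2 (sub_eq_zero.1 h4).symm)

end Chars

section Induction

variable [Finite G]

/-- The end of the character argument: the products `u u^g` generate a proper normal subgroup
together with `u`, when a second involution commutes with `u`. -/
theorem closure_ne_top {u : G} (hu : IsIsolatedInvolution u)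
    (hloc : ∀ z : G, orderOf z = 2 → ∀ hzu : u ∈ Subgroup.centralizer ({z} : Set G),
      ∃ N : Subgroup (Subgroup.centralizer ({z} : Set G)), N.Normal ∧ Odd (Nat.card N) ∧
        ∀ h : Subgroup.centralizer ({z} : Set G),
          (⟨u, hzu⟩ : Subgroup.centralizer ({z} : Set G)) * h * ⟨u, hzu⟩⁻¹ * h⁻¹ ∈ N)
    {t : G} (ht : orderOf t = 2) (htu : Commute t u) (hne : t ≠ u) :
    Subgroup.normalClosure {c : G | ∃ a, IsConj u a ∧ c = u * a} ⊔ Subgroup.zpowers u ≠ ⊤ := by
  classical
  intro htop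
  haveI := Fintype.ofFinite G
  obtain ⟨M, hM⟩ := exists_isPModular 2 Nat.prime_two
  haveI : M.IsPrime := hM.2.1.isPrime
  haveI : Fact (Nat.Prime 2) := ⟨Nat.prime_two⟩
  set N := Subgroup.normalClosure {c : G | ∃ a, IsConj u a ∧ c = u * a}
  have hu2 := mul_self_of_orderOf_two hu.1
  -- no involution `t ≠ u` commuting with `u` lies in `N`
  have key : ∀ t : G, orderOf t = 2 → Commute t u → t ≠ u → t ∉ N := by
    intro t ht htu hne htN
    have hB := sum_degree_mul_eq_zero_principal hM (g := t) (by rw [ht])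
    have hterm : ∀ χ : IrrCharacter G, (if χ ∈ Cfsg.principalBlock M G then
        (χ : G → ℂ) 1 * (χ : G → ℂ) t else 0) =
        ((if χ ∈ Cfsg.principalBlock M G ∧ (χ : G → ℂ) t ≠ 0 then
          Cfsg.charDegree (χ : G → ℂ) ^ 2 else 0 : ℕ) : ℂ) := by
      intro χ
      by_cases hχ : χ ∈ Cfsg.principalBlock M G
      · rw [if_pos hχ]
        by_cases hχt : (χ : G → ℂ) t = 0
        · rw [if_neg (fun h => h.2 hχt), hχt, mul_zero, Nat.cast_zero]
        · rw [if_pos ⟨hχ, hχt⟩, Nat.cast_pow, charDegree_cast, sq]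
          congr 1
          refine mem_charKer.1 (Subgroup.normalClosure_le_normal ?_ htN)
          rintro c ⟨a, ha, rfl⟩
          exact mul_conj_mem_charKer hM hu hloc ht htu hne hχ hχt ha
      · rw [if_neg hχ, if_neg (fun h => hχ h.1), Nat.cast_zero]
    rw [Finset.sum_congr rfl fun χ _ => hterm χ, ← Nat.cast_sum, Nat.cast_eq_zero,
      Finset.sum_eq_zero_iff] at hB
    have h1 := hB (trivChar G) (Finset.mem_univ _)
    rw [if_pos ⟨trivChar_mem, by simp⟩] at h1
    exact pow_ne_zero 2 (charDegree_ne_zero (trivChar G)) h1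
  -- every element lies in `N` or in `u N`
  have hcover : ∀ g : G, g ∈ N ∨ u * g ∈ N := by
    intro g
    have hg : g ∈ N ⊔ Subgroup.zpowers u := htop ▸ Subgroup.mem_top g
    rw [sup_comm, Subgroup.mem_sup_of_normal_right] at hg
    obtain ⟨v, hv, n, hn, rfl⟩ := hg
    obtain ⟨i, hi⟩ : ∃ i : ℕ, u ^ i = v := by
      obtain ⟨i, hi⟩ := mem_powers_iff_mem_zpowers.2 hv
      exact ⟨i, hi⟩
    rcases Nat.even_or_odd' i with ⟨j, rfl | rfl⟩
    · left
      rw [← hi, pow_mul, sq, hu2, one_pow, one_mul]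
      exact hn
    · right
      rw [← hi, pow_succ, pow_mul, sq, hu2, one_pow, one_mul, ← mul_assoc, hu2, one_mul]
      exact hn
  have h1 : u * t ∈ N := (hcover t).resolve_left (key t ht htu hne)
  refine key (u * t) ?_ ((Commute.refl u).mul_left htu) (fun h => ?_) h1
  · refine Small.orderOf_eq_two_iff_sq.2 ⟨fun h => hne ?_, ?_⟩
    · rw [mul_eq_one_iff_eq_inv'] at h; rw [h, inv_eq_self_of_orderOf_two hu.1]
    · calc u * t * (u * t) = u * (t * u) * t := by group
        _ = (u * u) * (t * t) := by rw [htu.eq]; group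
        _ = 1 := by rw [hu2, mul_self_of_orderOf_two ht, one_mul]
  · have : t = 1 := mul_eq_left.1 h
    rw [this, orderOf_one] at ht; omega
where
  sum_degree_mul_eq_zero_principal {X : Type u} [Group X] [Fintype X] {M : Ideal AlgInt}
      [M.IsPrime] (hM : Cfsg.IsPModular 2 M) {g : X} (hg : 2 ∣ orderOf g)
      [DecidablePred (· ∈ Cfsg.principalBlock M X)] :
      ∑ χ : IrrCharacter X, (if χ ∈ Cfsg.principalBlock M X then
        (χ : X → ℂ) 1 * (χ : X → ℂ) g else 0) = 0 :=
    haveI : Fact (Nat.Prime 2) := ⟨Nat.prime_two⟩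
    BlocksCharsC.sum_degree_mul_eq_zero hM (isBlockUnion_of_isPBlock isPBlock_principalBlock) hg

end Induction

/-- Glauberman's Z*-theorem, given Brauer-Suzuki for quaternion Sylow 2-subgroups. -/
theorem exists_oddNormal_of_quaternion
    (hBS : ∀ (X : Type u) [Group X] [Finite X] (S : Sylow 2 X) (n : ℕ),
      ((S : Subgroup X) ≃* QuaternionGroup (2 ^ (n + 1))) →
      (∀ N : Subgroup X, N.Normal → Odd (Nat.card N) → N = ⊥) →
      Nat.card (Subgroup.center X) = 2) :
    ∀ (X : Type u) [Group X] [Finite X] (u : X), IsIsolatedInvolution u →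
      ∃ N : Subgroup X, N.Normal ∧ Odd (Nat.card N) ∧ ∀ g : X, u * g * u⁻¹ * g⁻¹ ∈ N := by
  intro X
  induction h : Nat.card X using Nat.strong_induction_on generalizing X with
  | _ n ih =>
  intro _ _ u hu
  haveI : Fact (Nat.Prime 2) := ⟨Nat.prime_two⟩
  -- reduction modulo a nontrivial odd normal subgroup
  by_cases hO : ∃ N₀ : Subgroup X, N₀.Normal ∧ Odd (Nat.card N₀) ∧ N₀ ≠ ⊥
  · obtain ⟨N₀, hn₀, hodd₀, hne₀⟩ := hO
    haveI := hn₀
    have huN : u ∉ N₀ := fun h => by
      have := hodd₀.of_dvd_nat (Subgroup.orderOf_dvd_natCard _ h)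
      rw [hu.1] at this
      exact absurd this (by decide)
    have hlt : Nat.card (X ⧸ N₀) < n := by
      rw [← h, Subgroup.card_eq_card_quotient_mul_card_subgroup N₀]
      exact lt_mul_of_one_lt_right Nat.card_pos (Subgroup.one_lt_card_iff_ne_bot _ |>.2 hne₀)
    obtain ⟨N, hN, hNodd, hcomm⟩ := ih _ hlt (X ⧸ N₀) rfl _ (isIsolatedInvolution_mk hu N₀ huN)
    refine ⟨N.comap (QuotientGroup.mk' N₀), hN.comap _, ?_, fun g => ?_⟩
    · rw [card_comap_mk N₀ N]
      exact hNodd.mul hodd₀
    · simpa using hcomm (QuotientGroup.mk' N₀ g)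
  push Not at hO
  suffices hc : u ∈ Subgroup.center X by
    refine ⟨⊥, inferInstance, by simp, fun g => ?_⟩
    rw [Subgroup.mem_bot, ← Subgroup.mem_center_iff.1 hc g]
    group
  by_contra huc
  -- the center contains no involution
  have hZ : ∀ z : X, orderOf z = 2 → z ∉ Subgroup.center X := by
    intro z hz hzc
    apply huc
    have hzne : z ≠ u := fun e => huc (e ▸ hzc)
    haveI : (Subgroup.zpowers z).Normal := ⟨fun a ha g => by
      have hg : Commute g z := Subgroup.mem_center_iff.1 hzc g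
      obtain ⟨i, rfl⟩ := ha
      rw [(hg.zpow_right i).eq, mul_inv_cancel_right]
      exact Subgroup.zpow_mem_zpowers _ _⟩
    have hcz : Nat.card (Subgroup.zpowers z) = 2 := by rw [Nat.card_zpowers, hz]
    have huZ : u ∉ Subgroup.zpowers z := by
      intro hmem
      obtain ⟨i, hi⟩ := mem_powers_iff_mem_zpowers.2 hmem
      dsimp only at hi
      rcases Nat.even_or_odd' i with ⟨j, rfl | rfl⟩
      · rw [pow_mul, sq, mul_self_of_orderOf_two hz, one_pow] at hi
        have := hu.1
        rw [← hi, orderOf_one] at this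
        omega
      · rw [pow_succ, pow_mul, sq, mul_self_of_orderOf_two hz, one_pow, one_mul] at hi
        exact hzne hi
    have hlt : Nat.card (X ⧸ Subgroup.zpowers z) < n := by
      rw [← h, Subgroup.card_eq_card_quotient_mul_card_subgroup (Subgroup.zpowers z), hcz]
      exact lt_mul_of_one_lt_right Nat.card_pos one_lt_two
    obtain ⟨N, hN, hNodd, hcomm⟩ := ih _ hlt (X ⧸ Subgroup.zpowers z) rfl _
      (isIsolatedInvolution_mk hu _ huZ)
    set K := N.comap (QuotientGroup.mk' (Subgroup.zpowers z)) with hKdef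
    haveI : K.Normal := hN.comap _
    have hzK : Subgroup.zpowers z ≤ K := fun a ha => by
      rw [hKdef, Subgroup.mem_comap, QuotientGroup.mk'_apply, (QuotientGroup.eq_one_iff a).2 ha]
      exact one_mem _
    set Z := (Subgroup.zpowers z).subgroupOf K with hZdef
    have hZc : Nat.card Z = 2 := by
      rw [hZdef, Nat.card_congr (Subgroup.subgroupOfEquivOfLe hzK).toEquiv, hcz]
    have hKc : Nat.card K = Nat.card N * 2 := by rw [hKdef, card_comap_mk, hcz]
    have hZi : Z.index = Nat.card N := by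
      have h1 := Subgroup.card_mul_index Z
      rw [hZc, hKc] at h1
      linarith
    haveI : Z.Normal := inferInstance
    obtain ⟨H, hH⟩ := Subgroup.exists_right_complement'_of_coprime (N := Z)
      (by rw [hZc, hZi]; exact Nat.coprime_two_left.2 hNodd)
    have hHi : H.index = 2 := by rw [← hZc]; exact (hH.index_eq_card).symm ▸ rfl
    have hHc : Odd (Nat.card H) := by
      have h1 := Subgroup.card_mul_index H
      rw [hHi, hKc] at h1
      rwa [Nat.eq_of_mul_eq_mul_right two_pos h1]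
    have hHmem : ∀ k : K, k ∈ H ↔ Odd (orderOf k) := by
      intro k
      constructor
      · exact fun hk => hHc.of_dvd_nat (Subgroup.orderOf_dvd_natCard _ hk)
      · intro hk
        exact Subgroup.zpowers_le.2 (Subgroup.sq_mem_of_index_two hHi k)
          (Isolated.mem_zpowers_sq hk)
    have hHn : (H.map K.subtype).Normal := by
      refine ⟨?_⟩
      rintro _ ⟨k, hk, rfl⟩ g
      refine ⟨⟨g * (k : X) * g⁻¹, ‹K.Normal›.conj_mem _ k.2 g⟩, (hHmem _).2 ?_, rfl⟩
      rw [Subgroup.orderOf_mk, Small.orderOf_conj_eq, Subgroup.orderOf_coe]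
      exact (hHmem k).1 hk
    have hHbot := hO _ hHn (by
      rwa [Subgroup.card_map_of_injective K.subtype_injective])
    rw [Subgroup.mem_center_iff]
    intro g
    have hm : u * g * u⁻¹ * g⁻¹ ∈ K := by
      rw [hKdef, Subgroup.mem_comap]
      simpa using hcomm (QuotientGroup.mk' _ g)
    have hodd : Odd (orderOf (u * g * u⁻¹ * g⁻¹)) := by
      rw [show u * g * u⁻¹ * g⁻¹ = u * (g * u * g⁻¹) by
        rw [inv_eq_self_of_orderOf_two hu.1]; group]
      exact Isolated.odd_mul hu (IsConj.refl u) (isConj_iff.2 ⟨g, rfl⟩)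
    have h1 : u * g * u⁻¹ * g⁻¹ ∈ H.map K.subtype :=
      ⟨⟨_, hm⟩, (hHmem _).2 (by rwa [Subgroup.orderOf_mk]), rfl⟩
    rw [hHbot, Subgroup.mem_bot, mul_inv_eq_one, mul_inv_eq_iff_eq_mul] at h1
    exact h1.symm
  -- local hypothesis
  have hloc : ∀ z : X, orderOf z = 2 → ∀ hzu : u ∈ Subgroup.centralizer ({z} : Set X),
      ∃ N : Subgroup (Subgroup.centralizer ({z} : Set X)), N.Normal ∧ Odd (Nat.card N) ∧
        ∀ g : Subgroup.centralizer ({z} : Set X),
          (⟨u, hzu⟩ : Subgroup.centralizer ({z} : Set X)) * g * ⟨u, hzu⟩⁻¹ * g⁻¹ ∈ N := by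
    intro z hz hzu
    have hne : Subgroup.centralizer ({z} : Set X) ≠ ⊤ := fun htop => hZ z hz
      (Subgroup.mem_center_iff.2 fun g => Subgroup.mem_centralizer_singleton_iff.1
        (htop.symm ▸ Subgroup.mem_top g))
    have hlt : Nat.card (Subgroup.centralizer ({z} : Set X)) < n :=
      h ▸ card_lt_of_ne_top hne
    exact ih _ hlt _ rfl _ (isIsolatedInvolution_subgroup hu hzu)
  by_cases hex : ∃ t : X, orderOf t = 2 ∧ Commute t u ∧ t ≠ u
  · obtain ⟨t, ht, htu, hne⟩ := hex
    set N := Subgroup.normalClosure {c : X | ∃ a, IsConj u a ∧ c = u * a} with hNdef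
    set H := N ⊔ Subgroup.zpowers u with hHdef
    have huH : u ∈ H := Subgroup.mem_sup_right (Subgroup.mem_zpowers u)
    have hconj : ∀ a : X, IsConj u a → a ∈ H := fun a ha => by
      have h1 : u * a ∈ H := Subgroup.mem_sup_left (Subgroup.subset_normalClosure ⟨a, ha, rfl⟩)
      have h2 := H.mul_mem huH h1
      rwa [← mul_assoc, mul_self_of_orderOf_two hu.1, one_mul] at h2
    have hHn : H.Normal := by
      refine ⟨fun a ha g => ?_⟩
      suffices H ≤ H.comap (MulAut.conj g).toMonoidHom from this ha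
      refine sup_le (fun x hx => Subgroup.mem_sup_left
        ((Subgroup.normalClosure_normal).conj_mem x hx g)) ?_
      rw [Subgroup.zpowers_le]
      exact hconj _ (isConj_iff.2 ⟨g, rfl⟩)
    haveI := hHn
    have hne' : H ≠ ⊤ := closure_ne_top hu hloc ht htu hne
    obtain ⟨K, hK, hKodd, hcomm⟩ := ih _ (h ▸ card_lt_of_ne_top hne') H rfl _
      (isIsolatedInvolution_subgroup hu huH)
    haveI : (Cfsg.oddCore H).Characteristic := PLocal.pPrimeCoreCharacteristic 2 H
    have hbot := hO ((Cfsg.oddCore H).map H.subtype) inferInstance (by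
      rw [Subgroup.card_map_of_injective H.subtype_injective]; exact Inv54.odd_card_oddCore)
    have hKle : K ≤ Cfsg.oddCore H :=
      LocalEven50.le_pPrimeCore hK (Nat.coprime_two_right.2 hKodd)
    apply huc
    rw [Subgroup.mem_center_iff]
    intro g
    have ha : g * u * g⁻¹ ∈ H := hconj _ (isConj_iff.2 ⟨g, rfl⟩)
    have h1 : ((⟨u, huH⟩ * ⟨_, ha⟩ * (⟨u, huH⟩ : H)⁻¹ * (⟨_, ha⟩ : H)⁻¹ : H) : X) ∈
        (Cfsg.oddCore H).map H.subtype := ⟨_, hKle (hcomm ⟨_, ha⟩), rfl⟩
    rw [hbot, Subgroup.mem_bot] at h1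
    push_cast at h1
    rw [mul_inv_eq_one, mul_inv_eq_iff_eq_mul] at h1
    exact mul_inv_eq_iff_eq_mul.1 (hu.2 g h1)
  · push Not at hex
    -- `u` is the only involution of a Sylow 2-subgroup
    obtain ⟨S, hS⟩ := (IsPGroup.of_card (p := 2) (n := 1)
      (by rw [Nat.card_zpowers, hu.1, pow_one]) : IsPGroup 2 (Subgroup.zpowers u)).exists_le_sylow
    have huS : u ∈ S := hS (Subgroup.mem_zpowers u)
    have huniq : TwoGroupsQ.HasUniqueOrderP (S : Subgroup X) 2 := by
      have hone : ∀ y : (S : Subgroup X), y ^ 2 = 1 → y ≠ 1 → (y : X) = u := fun y hy hy1 => by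
        refine hex y ?_ (Isolated.commute_of_isPGroup hu S.isPGroup' huS y.2)
        rw [Subgroup.orderOf_coe]
        exact orderOf_eq_prime hy hy1
      intro x y hx hy hy1
      by_cases hx1 : x = 1
      · rw [hx1]; exact one_mem _
      · rw [Subtype.ext ((hone x hx hx1).trans (hone y hy hy1).symm)]
        exact Subgroup.mem_zpowers y
    rcases TwoGroupsQ.isCyclic_or_quaternion S.isPGroup' huniq with hcyc | ⟨-, m, hm, ⟨e⟩⟩
    · have heven : 2 ∣ Nat.card X := hu.1 ▸ orderOf_dvd_natCard u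
      have hmin : (Nat.card X).minFac = 2 := (Nat.minFac_eq_two_iff _).2 heven
      obtain ⟨φ, hφ⟩ : ∃ φ : X →* (S : Subgroup X), Subgroup.IsComplement' φ.ker S :=
        ⟨_, IsCyclic.isComplement' hmin hcyc⟩
      have hker : φ.ker = ⊥ := by
        refine hO _ inferInstance ?_
        rw [← hφ.index_eq_card]
        exact (Nat.not_even_iff_odd.1 fun he => S.not_dvd_index (even_iff_two_dvd.1 he))
      rw [hker, Subgroup.isComplement'_bot_left] at hφ
      apply huc
      rw [Subgroup.mem_center_iff]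
      intro g
      have hgS : g ∈ (S : Subgroup X) := hφ ▸ Subgroup.mem_top g
      exact (Isolated.commute_of_isPGroup hu S.isPGroup' huS hgS).eq
    · obtain ⟨k, rfl⟩ : ∃ k, m = k + 1 := ⟨m - 1, by omega⟩
      have hc := hBS X S k e hO
      obtain ⟨z, hz⟩ := exists_prime_orderOf_dvd_card' 2 (hc ▸ dvd_rfl : 2 ∣ Nat.card (Subgroup.center X))
      exact hZ z (by rw [Subgroup.orderOf_coe, hz]) z.2
where
  card_comap_mk {X : Type u} [Group X] [Finite X] (N₀ : Subgroup X) [N₀.Normal]
      (N : Subgroup (X ⧸ N₀)) :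
      Nat.card (N.comap (QuotientGroup.mk' N₀)) = Nat.card N * Nat.card N₀ := by
    have h1 := Subgroup.card_mul_index (N.comap (QuotientGroup.mk' N₀))
    rw [Subgroup.index_comap_of_surjective _ (QuotientGroup.mk'_surjective N₀),
      Subgroup.card_eq_card_quotient_mul_card_subgroup N₀, ← Subgroup.card_mul_index N] at h1
    refine Nat.eq_of_mul_eq_mul_right (Nat.pos_of_ne_zero N.index_ne_zero_of_finite) ?_
    rw [h1]; ring
  card_lt_of_ne_top {X : Type u} [Group X] [Finite X] {H : Subgroup X} (hne : H ≠ ⊤) :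
      Nat.card H < Nat.card X :=
    lt_of_le_of_ne (Subgroup.card_le_card_group H)
      fun e => hne (Subgroup.eq_top_of_card_eq H e)

end CfsgLib.ZStar
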