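import Cfsg.Agent.TwoGroups.IsolatedZStar
import Cfsg.Agent.LocalEven50.Isolated
import Cfsg.Agent.S4314

/-!
# Classes of involutions with products of p-power order

If all products of conjugates of the involution `d` have `p`-power order, `p` odd, they lie in
`O_p(G)`: `d` is isolated, hence central modulo `O(G)`, and for primes `q ≠ p` it centralises a
Sylow `q`-subgroup of `O(G)`.
-/

set_option autoImplicit false
set_option linter.style.haveILetI false

namespace CfsgLib.ZStar.PowerProduct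

open Cfsg
open CfsgLib.Small (mul_self_of_orderOf_two inv_eq_self_of_orderOf_two)

variable {G : Type*} [Group G] [Finite G] {p : ℕ} {d : G}

theorem isIsolated (hp2 : p ≠ 2) (hp : p.Prime) (hd : orderOf d = 2)
    (hprod : ∀ a ∈ conjugatesOf d, ∀ b ∈ conjugatesOf d, ∃ k : ℕ, orderOf (a * b) = p ^ k) :
    IsIsolatedInvolution d := by
  refine ⟨hd, fun g hc => ?_⟩
  set a := g * d * g⁻¹ with ha
  have ha2 : orderOf a = 2 := by rw [ha, Small.orderOf_conj_eq, hd]
  have h2 : (d * a) ^ 2 = 1 := by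
    rw [hc.mul_pow, sq, sq, mul_self_of_orderOf_two hd, mul_self_of_orderOf_two ha2, one_mul]
  obtain ⟨k, hk⟩ := hprod d (IsConj.refl d) a (isConj_iff.2 ⟨g, rfl⟩)
  have h1 : d * a = 1 := by
    rw [← orderOf_eq_one_iff]
    exact Nat.eq_one_of_dvd_coprimes (((Nat.coprime_primes Nat.prime_two hp).2 (Ne.symm hp2)).pow_right k)
      (orderOf_dvd_of_pow_eq_one h2) (dvd_of_eq hk)
  rw [mul_eq_one_iff_eq_inv'] at h1
  rw [h1, inv_eq_self_of_orderOf_two hd]

/-- The products of two conjugates lie in `O_p(G)`. -/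
theorem mul_mem_pCore (hp2 : p ≠ 2) (hp : p.Prime) (hd : orderOf d = 2)
    (hprod : ∀ a ∈ conjugatesOf d, ∀ b ∈ conjugatesOf d, ∃ k : ℕ, orderOf (a * b) = p ^ k)
    {a b : G} (ha : a ∈ conjugatesOf d) (hb : b ∈ conjugatesOf d) : a * b ∈ Cfsg.pCore p G := by
  classical
  haveI : Fact p.Prime := ⟨hp⟩
  haveI : Fact (Nat.Prime 2) := ⟨Nat.prime_two⟩
  have hiso := isIsolated hp2 hp hd hprod
  have hdd := mul_self_of_orderOf_two hd
  have hdi := inv_eq_self_of_orderOf_two hd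
  set O := Cfsg.oddCore G with hO
  have hOodd : (Nat.card O).Coprime 2 :=
    Nat.coprime_two_right.2 TwoGroups.odd_card_oddCore
  haveI hOc : O.Characteristic := PLocal.pPrimeCoreCharacteristic 2 G
  haveI : O.Normal := inferInstance
  have hdp : IsPGroup 2 (Subgroup.zpowers d) :=
    IsPGroup.of_card (n := 1) (by rw [Nat.card_zpowers, hd, pow_one])
  set C := (Subgroup.centralizer ({d} : Set G)).subgroupOf O with hC
  -- `d` centralises a Sylow `q`-subgroup for every `q ≠ p`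
  have hidx : ∃ j, C.index = p ^ j := by
    refine ⟨_, Nat.eq_prime_pow_of_unique_prime_dvd Subgroup.index_ne_zero_of_finite
      fun {q} hq hqd => ?_⟩
    by_contra hne
    haveI : Fact q.Prime := ⟨hq⟩
    obtain ⟨S, hS⟩ := LocalEven50.exists_invariant_sylow hdp O hOodd q
    refine S.not_dvd_index (hqd.trans (Subgroup.index_dvd_of_le fun s hs => ?_))
    rw [hC, Subgroup.mem_subgroupOf, Subgroup.mem_centralizer_singleton_iff]
    set w : G := d * (s : G) * d⁻¹ * (s : G)⁻¹ with hw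
    have hwS : w ∈ (S : Subgroup O).map O.subtype :=
      mul_mem ((Subgroup.mem_normalizer_iff.1 hS _).1 ⟨s, hs, rfl⟩)
        (inv_mem ⟨s, hs, rfl⟩)
    obtain ⟨i, hi⟩ := IsPGroup.iff_orderOf.1 (S.isPGroup'.map O.subtype) ⟨w, hwS⟩
    rw [Subgroup.orderOf_mk] at hi
    obtain ⟨k, hk⟩ := hprod d (IsConj.refl d) ((s : G) * d * (s : G)⁻¹) (isConj_iff.2 ⟨_, rfl⟩)
    have he : d * ((s : G) * d * (s : G)⁻¹) = w := by rw [hw, hdi]; group
    rw [he] at hk
    have h1 : w = 1 := by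
      rw [← orderOf_eq_one_iff]
      exact Nat.eq_one_of_dvd_coprimes (Nat.Coprime.pow i k ((Nat.coprime_primes hq hp).2 hne))
        (dvd_of_eq hi) (dvd_of_eq hk)
    rw [hw, mul_inv_eq_one, mul_inv_eq_iff_eq_mul] at h1
    exact h1.symm
  obtain ⟨P, hP⟩ := LocalEven50.exists_invariant_sylow hdp O hOodd p
  set P' := (P : Subgroup O).map O.subtype with hP'
  have hfac : ∀ g : G, ∃ r ∈ P', g * d * g⁻¹ = r * d * r⁻¹ := by
    intro g
    obtain ⟨o, ho, c, hc, rfl⟩ := TwoGroups.exists_mul_centralizer hiso g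
    obtain ⟨j, hj⟩ := hidx
    have hcop : Nat.Coprime (P : Subgroup O).index C.index := by
      rw [hj]
      exact ((hp.coprime_iff_not_dvd.2 P.not_dvd_index).symm).pow_right j
    obtain ⟨r, hr, c', hc', he⟩ := Cfsg.Agent.S4314.exists_mul_of_coprime_index hcop ⟨o, ho⟩
    have he' : o = (r : G) * (c' : G) := congrArg Subtype.val he
    refine ⟨(r : G), ⟨r, hr, rfl⟩, ?_⟩
    have hcd : (c' : G) * c * d = d * ((c' : G) * c) :=
      Subgroup.mem_centralizer_singleton_iff.1 (mul_mem hc' hc)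
    calc o * c * d * (o * c)⁻¹ = (r : G) * ((c' : G) * c * d) * ((c' : G) * c)⁻¹ * (r : G)⁻¹ := by
          rw [he']; group
      _ = _ := by rw [hcd]; group
  have hmem : ∀ a ∈ conjugatesOf d, ∀ b ∈ conjugatesOf d, a * b ∈ P' := by
    intro a ha b hb
    obtain ⟨g, rfl⟩ := isConj_iff.1 ha
    obtain ⟨g', rfl⟩ := isConj_iff.1 hb
    obtain ⟨r, hr, e⟩ := hfac g
    obtain ⟨s, hs, e'⟩ := hfac g'
    rw [e, e', show r * d * r⁻¹ * (s * d * s⁻¹) = r * (d * (r⁻¹ * s) * d⁻¹) * s⁻¹ by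
      rw [hdi]; group]
    exact mul_mem (mul_mem hr ((Subgroup.mem_normalizer_iff.1 hP _).1 (mul_mem (inv_mem hr) hs)))
      (inv_mem hs)
  set H := Subgroup.closure {w : G | ∃ a ∈ conjugatesOf d, ∃ b ∈ conjugatesOf d, a * b = w}
  have hHn : H.Normal := by
    refine ⟨fun w hw g => ?_⟩
    suffices hle : H ≤ H.comap (MulAut.conj g).toMonoidHom from hle hw
    rw [Subgroup.closure_le]
    rintro _ ⟨a, ha, b, hb, rfl⟩
    refine Subgroup.subset_closure ⟨g * a * g⁻¹, ha.trans (isConj_iff.2 ⟨g, rfl⟩),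
      g * b * g⁻¹, hb.trans (isConj_iff.2 ⟨g, rfl⟩), ?_⟩
    simp [mul_assoc]
  have hHle : H ≤ P' := (Subgroup.closure_le _).2 (by
    rintro _ ⟨a, ha, b, hb, rfl⟩
    exact hmem a ha b hb)
  exact (le_sSup ⟨hHn, (P.isPGroup'.map O.subtype).to_le hHle⟩ : H ≤ Cfsg.pCore p G)
    (Subgroup.subset_closure ⟨a, ha, b, hb, rfl⟩)

end CfsgLib.ZStar.PowerProduct
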